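import Cfsg.Agent.NormCyclicEven16.Single
import Cfsg.Agent.S0949

/-!
An abelian Sylow `2`-subgroup with a nonabelian involution centraliser is a four-group.
-/

set_option autoImplicit false

namespace CfsgLib.NormCyclicEven16

variable {G : Type*} [Group G] [Finite G]

/-- The elements of order at most two of an abelian subgroup. -/
def omegaOne (S : Subgroup G) (hab : ∀ x ∈ S, ∀ y ∈ S, Commute x y) : Subgroup G where
  carrier := {w | w ∈ S ∧ w * w = 1}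
  one_mem' := ⟨one_mem S, one_mul 1⟩
  mul_mem' := by
    rintro a b ⟨ha, ha2⟩ ⟨hb, hb2⟩
    refine ⟨mul_mem ha hb, ?_⟩
    calc a * b * (a * b) = a * (b * a) * b := by group
      _ = a * (a * b) * b := by rw [(hab b hb a ha).eq]
      _ = (a * a) * (b * b) := by group
      _ = 1 := by rw [ha2, hb2, one_mul]
  inv_mem' := by
    rintro a ⟨ha, ha2⟩
    exact ⟨inv_mem ha, by rw [← mul_inv_rev, ha2, inv_one]⟩

theorem conj_mem_of_normalizer {S : Subgroup G} {g : G}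
    (hg : g ∈ Subgroup.normalizer (S : Set G)) {x : G} (hx : x ∈ S) : g * x * g⁻¹ ∈ S :=
  (Subgroup.mem_normalizer_iff.mp hg x).mp hx

theorem commute_sylow_of_commute_involution (h : Hyp G) (S : Sylow 2 G)
    (hab : ∀ x ∈ S, ∀ y ∈ S, Commute x y) {g : G}
    (hg : g ∈ Subgroup.normalizer ((S : Subgroup G) : Set G)) (hodd : Odd (orderOf g)) {s : G}
    (hs : orderOf s = 2) (hsS : s ∈ S) (hgs : Commute g s) : ∀ x ∈ S, Commute g x := fun x hx =>
  h.commute_of_two hs ⟨hgs, hodd⟩ (hab x hx s hsS) (two_of_mem S.2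
    ((S : Subgroup G).mul_mem (conj_mem_of_normalizer hg hx) ((S : Subgroup G).inv_mem hx)))

theorem Hyp.abelian_case [IsSimpleGroup G] (hna : ¬ IsMulCommutative G) (h : Hyp G)
    (hev : Even (Nat.card G)) (S : Sylow 2 G) (hab : ∀ x ∈ S, ∀ y ∈ S, Commute x y) {e₀ : G}
    (he₀ : orderOf e₀ = 2)
    (hbad₀ : ¬ IsMulCommutative ↥(Subgroup.centralizer ({e₀} : Set G))) : IsPSLTwo G := by
  obtain ⟨e, he, heS, a, ha, v, hvS, hav⟩ : ∃ (e : G) (he : orderOf e = 2), e ∈ S ∧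
      ∃ a ∈ oddPart h he, ∃ v ∈ S, ¬ Commute a v := by
    obtain ⟨T, hT⟩ := (IsPGroup.of_card (n := 1)
      (by rw [Nat.card_zpowers, he₀, pow_one]) : IsPGroup 2 ↥(Subgroup.zpowers e₀)).exists_le_sylow
    obtain ⟨g, hg⟩ := MulAction.exists_smul_eq G T S
    have heS : g * e₀ * g⁻¹ ∈ S := by
      rw [← hg]
      exact Subgroup.smul_mem_pointwise_smul _ (MulAut.conj g) _ (hT (Subgroup.mem_zpowers e₀))
    have he : orderOf (g * e₀ * g⁻¹) = 2 := (orderOf_conj' g e₀).trans he₀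
    refine ⟨_, he, heS, by_contra fun hcon => hbad₀ ?_⟩
    push Not at hcon
    have hcen : ∀ k ∈ S, Commute k (g * e₀ * g⁻¹) := fun k hk => hab k hk _ heS
    refine ⟨⟨fun x y => Subtype.ext ?_⟩⟩
    show Commute (x : G) y
    rw [← commute_conj_iff g]
    obtain ⟨a, ha, s, hs, hx⟩ := h.exists_mul_mem he S hcen
      ((commute_conj_iff g _ e₀).mpr (mem_centralizer_singleton_iff'.mp x.2))
    obtain ⟨b, hb, s', hs', hy⟩ := h.exists_mul_mem he S hcen
      ((commute_conj_iff g _ e₀).mpr (mem_centralizer_singleton_iff'.mp y.2))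
    rw [hx, hy]
    exact ((h.oddPart_comm he a ha b hb).mul_right (hcon a ha s' hs')).mul_left
      ((hcon b hb s hs).symm.mul_right (hab s hs s' hs'))
  obtain ⟨Ω, hΩ⟩ : ∃ Ω, Ω = omegaOne (S : Subgroup G) hab := ⟨_, rfl⟩
  have hmΩ : ∀ w, w ∈ Ω ↔ w ∈ S ∧ w * w = 1 := fun w => hΩ ▸ Iff.rfl
  -- the hyperplane belonging to an involution with nonabelian centraliser
  let L : ∀ {f : G}, orderOf f = 2 → Subgroup G := fun {f} hf =>
    Ω ⊓ Subgroup.centralizer ((oddPart h hf : Subgroup G) : Set G)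
  have hmL : ∀ {f : G} (hf : orderOf f = 2) (w : G),
      w ∈ L hf ↔ w ∈ Ω ∧ ∀ b ∈ oddPart h hf, Commute w b := fun {f} hf w => by
    simp only [L, Subgroup.mem_inf, Subgroup.mem_centralizer_iff]
    exact and_congr_right fun _ => ⟨fun h b hb => (h b hb).symm, fun h b hb => (h b hb).symm⟩
  have main : ∀ f (hf : orderOf f = 2), f ∈ S → ∀ b ∈ oddPart h hf, ∀ u ∈ S, ¬ Commute b u →
      f ∈ L hf ∧ (∀ w ∈ L hf, w ≠ 1 → ∀ x, Commute x w ↔ Commute x f) ∧
      (∃ s ∈ Ω, s ∉ L hf) ∧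
      (∀ s ∈ Ω, s ∉ L hf → ∀ s' ∈ Ω, s' ∉ L hf → s * s' ∈ L hf) := by
    intro f hf hfS b hb u huS hbu
    have hb1 : b ≠ 1 := fun h0 => hbu (h0 ▸ Commute.one_left u)
    have hsame : ∀ w ∈ L hf, w ≠ 1 → ∀ x, Commute x w ↔ Commute x f := fun w hw hw1 =>
      h.commute_iff_of_common hf hb hb1
        (orderOf_eq_two_iff'.mpr ⟨((hmΩ w).mp ((hmL hf w).mp hw).1).2, hw1⟩)
        (((hmL hf w).mp hw).2 b hb)
    refine ⟨(hmL hf f).mpr ⟨(hmΩ f).mpr ⟨hfS, (orderOf_eq_two_iff'.mp hf).1⟩,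
      fun c hc => hc.1.symm⟩, hsame, ?_, ?_⟩
    · by_cases huu : u * u = 1
      · exact ⟨u, (hmΩ u).mpr ⟨huS, huu⟩, fun h0 => hbu (((hmL hf u).mp h0).2 b hb).symm⟩
      · have hu2 := two_of_mem S.2 huS
        obtain ⟨w, hw, hwu⟩ := hu2.exists_involution (fun h0 => huu (by rw [h0, one_mul]))
        have hwS : w ∈ S := Subgroup.zpowers_le.mpr huS hwu
        refine ⟨w, (hmΩ w).mpr ⟨hwS, (orderOf_eq_two_iff'.mp hw).1⟩, fun h0 => hbu ?_⟩
        refine h.commute_oddPart hw hu2 hwu ?_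
        rw [oddPart_eq_of_commute_iff h hf hw (hsame w h0 (orderOf_eq_two_iff'.mp hw).2)]
        exact hb
    · intro s hs hsL s' hs' hsL'
      have hinv : ∀ r ∈ Ω, r ∉ L hf → ∀ c ∈ oddPart h hf, r * c * r⁻¹ = c⁻¹ := by
        intro r hr hrL
        have hr1 : r ≠ 1 := fun h0 => hrL (h0 ▸ one_mem _)
        rcases h.commute_or_inverts hf (orderOf_eq_two_iff'.mpr ⟨((hmΩ r).mp hr).2, hr1⟩)
          (hab r ((hmΩ r).mp hr).1 f hfS) with hl | hinv
        · exact absurd ((hmL hf r).mpr ⟨hr, fun c hc => ((hl c).mpr hc.1).symm⟩) hrL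
        · exact hinv
      exact (hmL hf _).mpr ⟨mul_mem hs hs', fun c hc =>
        commute_mul_of_inverts (hinv s hs hsL c hc) (hinv s' hs' hsL' c hc)⟩
  obtain ⟨heL, hsame, ⟨s₀, hs₀, hs₀L⟩, hprod⟩ := main e he heS a ha v hvS hav
  have hidx : (L he).relIndex Ω = 2 := relIndex_eq_two_of hs₀ hs₀L fun k hk => by
    by_cases hkL : k ∈ L he
    · exact Or.inl hkL
    · exact Or.inr (hprod s₀ hs₀ hs₀L k hk hkL)
  have hcardΩ : Nat.card ↥Ω = Nat.card ↥(L he) * 2 := by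
    rw [← hidx, Subgroup.relIndex, ← Nat.card_congr
      (Subgroup.subgroupOfEquivOfLe (inf_le_left : L he ≤ Ω)).toEquiv]
    exact ((L he).subgroupOf Ω).card_mul_index.symm
  haveI := Fact.mk Nat.prime_two
  obtain ⟨c, hc⟩ := IsPGroup.iff_card.mp (S.2.to_le
    (fun w hw => ((hmΩ w).mp ((hmL he w).mp hw).1).1 : L he ≤ (S : Subgroup G)))
  have hodd_of : ∀ {g : G} {q k : ℕ}, q.Prime → q ≠ 2 → orderOf g = q ^ k → Odd (orderOf g) :=
    fun hq hq2 hord => hord ▸ (hq.odd_of_ne_two hq2).pow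
  rcases le_or_gt 2 c with hc2 | hc2
  · -- the hyperplane is invariant under the normaliser
    refine (false_of_odd_centralize hna hev S hab fun g hg q k hq hq2 hk hord => ?_).elim
    have he' : orderOf (g * e * g⁻¹) = 2 := (orderOf_conj' g e).trans he
    have hA' : ∀ {b : G}, b ∈ oddPart h he → g * b * g⁻¹ ∈ oddPart h he' := fun {b} hb =>
      ⟨(commute_conj_iff g b e).mpr hb.1, by rw [orderOf_conj']; exact hb.2⟩
    obtain ⟨-, hsame', -, hprod'⟩ := main _ he' (conj_mem_of_normalizer hg heS) _ (hA' ha) _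
      (conj_mem_of_normalizer hg hvS) (fun h0 => hav ((commute_conj_iff g a v).mp h0))
    obtain ⟨w, hw, hw', hw1⟩ : ∃ w ∈ L he, w ∈ L he' ∧ w ≠ 1 := by
      obtain ⟨w₁, hw₁, hw₁1, hw₁e⟩ : ∃ w ∈ L he, w ≠ 1 ∧ w ≠ e := by
        by_contra hcon
        push Not at hcon
        have hle : L he ≤ Subgroup.zpowers e := fun w hw => by
          by_cases hw1 : w = 1
          · rw [hw1]; exact one_mem _
          · rw [hcon w hw hw1]; exact Subgroup.mem_zpowers e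
        have h4 := Subgroup.card_le_of_le hle
        rw [hc, Nat.card_zpowers, he] at h4
        have h5 : 2 ^ 2 ≤ 2 ^ c := Nat.pow_le_pow_right (by norm_num) hc2
        omega
      by_cases e1 : e ∈ L he'
      · exact ⟨e, heL, e1, (orderOf_eq_two_iff'.mp he).2⟩
      by_cases e2 : w₁ ∈ L he'
      · exact ⟨w₁, hw₁, e2, hw₁1⟩
      refine ⟨w₁ * e, mul_mem hw₁ heL,
        hprod' w₁ ((hmL he w₁).mp hw₁).1 e2 e ((hmL he e).mp heL).1 e1, fun h0 => hw₁e ?_⟩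
      rw [mul_eq_one_iff_eq_inv] at h0
      rw [h0, inv_eq_of_mul_eq_one_right (orderOf_eq_two_iff'.mp he).1]
    have hAA : oddPart h he' = oddPart h he :=
      oddPart_eq_of_commute_iff h he he' fun x =>
        (hsame' w hw' hw1 x).symm.trans (hsame w hw hw1 x)
    have hΩn : ∀ x ∈ Ω, g * x * g⁻¹ ∈ Ω := fun x hx => by
      obtain ⟨hxS, hx2⟩ := (hmΩ x).mp hx
      refine (hmΩ _).mpr ⟨conj_mem_of_normalizer hg hxS, ?_⟩
      calc g * x * g⁻¹ * (g * x * g⁻¹) = g * (x * x) * g⁻¹ := by group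
        _ = 1 := by rw [hx2]; group
    have hLn : ∀ x ∈ L he, g * x * g⁻¹ ∈ L he := fun x hx => by
      refine (hmL he _).mpr ⟨hΩn x ((hmL he x).mp hx).1, fun b hb => ?_⟩
      rw [← hAA] at hb
      have hb' : g⁻¹ * b * g ∈ oddPart h he := by
        refine ⟨?_, ?_⟩
        · have := (commute_conj_iff g⁻¹ b _).mpr hb.1
          rwa [inv_inv, show g⁻¹ * (g * e * g⁻¹) * g = e by group] at this
        · have := orderOf_conj' g⁻¹ b
          rw [inv_inv] at this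
          rw [this]
          exact hb.2
      have := (commute_conj_iff g x _).mpr (((hmL he x).mp hx).2 _ hb')
      rwa [show g * (g⁻¹ * b * g) * g⁻¹ = b by group] at this
    have toN : ∀ {P : Subgroup G}, (∀ x ∈ P, g * x * g⁻¹ ∈ P) →
        g ∈ Subgroup.normalizer (P : Set G) := by
      intro P hP
      have heq : P.map (MulAut.conj g).toMonoidHom = P :=
        Subgroup.eq_of_le_of_card_ge (by rintro _ ⟨x, hx, rfl⟩; exact hP x hx)
          (Subgroup.card_map_of_injective (MulAut.conj g).injective).ge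
      refine Subgroup.mem_normalizer_iff.mpr fun x => ⟨hP x, fun hx => ?_⟩
      rw [← heq] at hx
      obtain ⟨y, hy, hyx⟩ := hx
      obtain rfl : y = x := (MulAut.conj g).injective hyx
      exact hy
    haveI := Fact.mk hq
    obtain ⟨s, hs, hsg⟩ : ∃ s ∈ Ω, s ∉ L he ∧ Commute g s := by
      by_contra hcon
      push Not at hcon
      have heq : Ω ⊓ Subgroup.centralizer ({g} : Set G) =
          L he ⊓ Subgroup.centralizer ({g} : Set G) := by
        ext x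
        refine ⟨fun ⟨h1, h2⟩ => ⟨?_, h2⟩, fun ⟨h1, h2⟩ => ⟨((hmL he x).mp h1).1, h2⟩⟩
        by_contra hxL
        exact hcon x h1 hxL (mem_centralizer_singleton_iff'.mp h2).symm
      have m1 := Transfer.card_modEq_card_centralized Ω (toN hΩn) hord
      have m2 := Transfer.card_modEq_card_centralized (L he) (toN hLn) hord
      rw [heq] at m1
      have m3 := m1.trans m2.symm
      rw [hcardΩ, hc] at m3
      have hdvd : q ∣ 2 ^ c * 2 - 2 ^ c :=
        (Nat.modEq_iff_dvd' (by omega)).mp m3.symm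
      rw [show 2 ^ c * 2 - 2 ^ c = 2 ^ c by omega] at hdvd
      exact hq2 ((Nat.prime_dvd_prime_iff_eq hq Nat.prime_two).mp (hq.dvd_of_dvd_pow hdvd))
    exact commute_sylow_of_commute_involution h S hab hg (hodd_of hq hq2 hord)
      (orderOf_eq_two_iff'.mpr ⟨((hmΩ s).mp hs).2, fun h0 => hsg.1 (h0 ▸ one_mem _)⟩)
      ((hmΩ s).mp hs).1 hsg.2
  -- rank two
  have hL : L he = Subgroup.zpowers e := by
    refine (Subgroup.eq_of_le_of_card_ge (Subgroup.zpowers_le.mpr heL) ?_).symm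
    rw [hc, Nat.card_zpowers, he]
    exact (Nat.pow_le_pow_right (by norm_num) (by omega : c ≤ 1)).trans (by norm_num)
  have hLcases : ∀ w ∈ L he, w = 1 ∨ w = e := by
    intro w hw
    rw [hL] at hw
    by_cases hw1 : w = 1
    · exact Or.inl hw1
    refine Or.inr (involution_unique (orderOf_eq_two_iff'.mpr ⟨?_, hw1⟩) he hw (Subgroup.mem_zpowers e))
    obtain ⟨i, rfl⟩ := hw
    show e ^ i * e ^ i = 1
    rw [← (Commute.refl e).mul_zpow, (orderOf_eq_two_iff'.mp he).1, one_zpow]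
  by_cases hexp : ∀ x ∈ S, x * x = 1
  · refine h.dihedral_final hna S he heS (fun k hk => hab k hk e heS) (L he)
      (fun w hw => ((hmΩ w).mp ((hmL he w).mp hw).1).1) (hL ▸ inferInstance) heL ?_
      (fun g hg _ => hexp g hg) (fun _ g hg => ?_)
    · have hΩS : Ω = (S : Subgroup G) := SetLike.ext fun w =>
        ⟨fun hw => ((hmΩ w).mp hw).1, fun hw => (hmΩ w).mpr ⟨hw, hexp w hw⟩⟩
      rw [← hΩS]
      exact hidx
    · exact ⟨fun hgL => ((hmL he g).mp hgL).2,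
        fun hgA => (hmL he g).mpr ⟨(hmΩ g).mpr ⟨hg, hexp g hg⟩, hgA⟩⟩
  push Not at hexp
  obtain ⟨r, hrS, hr⟩ := hexp
  obtain ⟨g, hg, hgodd, hgne⟩ : ∃ g ∈ Subgroup.normalizer ((S : Subgroup G) : Set G),
      Odd (orderOf g) ∧ ¬ ∀ x ∈ S, Commute g x := by
    by_contra hcon
    push Not at hcon
    exact false_of_odd_centralize hna hev S hab fun g hg q k hq hq2 _ hord =>
      hcon g hg (hodd_of hq hq2 hord)
  obtain ⟨⟨x, hxS⟩, hmax⟩ := Finite.exists_max fun x : (S : Subgroup G) => orderOf (x : G)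
  obtain ⟨m, hm⟩ := (two_of_mem S.2 hxS).orderOf_eq
  have hdvd : ∀ s ∈ S, s ^ 2 ^ m = 1 := by
    intro s hs
    obtain ⟨i, hi⟩ := (two_of_mem S.2 hs).orderOf_eq
    have h1 : orderOf s ≤ orderOf x := hmax ⟨s, hs⟩
    rw [hi, hm] at h1
    rw [← orderOf_dvd_iff_pow_eq_one, hi]
    exact pow_dvd_pow 2 ((Nat.pow_le_pow_iff_right (by norm_num)).mp h1)
  obtain ⟨n, rfl⟩ : ∃ n, m = n + 2 := by
    refine ⟨m - 2, ?_⟩
    by_contra hlt
    have h1 := hdvd r hrS
    rcases (by omega : m = 0 ∨ m = 1) with rfl | rfl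
    · rw [pow_zero, pow_one] at h1
      exact hr (by rw [h1, one_mul])
    · rw [pow_one, pow_two] at h1
      exact hr h1
  obtain ⟨y, hy⟩ : ∃ y, y = g * x * g⁻¹ := ⟨_, rfl⟩
  have hyS : y ∈ S := hy ▸ conj_mem_of_normalizer hg hxS
  have hyo : orderOf y = 2 ^ (n + 2) := hy ▸ (orderOf_conj' g x).trans hm
  obtain ⟨e₁, he₁⟩ : ∃ e₁, e₁ = x ^ 2 ^ (n + 1) := ⟨_, rfl⟩
  obtain ⟨e₂, he₂⟩ : ∃ e₂, e₂ = y ^ 2 ^ (n + 1) := ⟨_, rfl⟩
  have hord2 : ∀ z : G, orderOf z = 2 ^ (n + 2) → orderOf (z ^ 2 ^ (n + 1)) = 2 := fun z hz => by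
    rw [orderOf_pow_of_dvd (by positivity) (hz ▸ pow_dvd_pow 2 (by omega)), hz,
      pow_succ' 2 (n + 1), Nat.mul_div_cancel _ (by positivity)]
  have ho₁ : orderOf e₁ = 2 := he₁ ▸ hord2 x hm
  have ho₂ : orderOf e₂ = 2 := he₂ ▸ hord2 y hyo
  have hx₁ : e₁ ∈ Subgroup.zpowers x := he₁ ▸ Subgroup.npow_mem_zpowers x _
  have hy₂ : e₂ ∈ Subgroup.zpowers y := he₂ ▸ Subgroup.npow_mem_zpowers y _
  have hne : e₁ ≠ e₂ := by
    intro h0
    refine hgne (commute_sylow_of_commute_involution h S hab hg hgodd ho₁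
      (Subgroup.zpowers_le.mpr hxS hx₁) (mul_inv_eq_iff_eq_mul.mp ?_))
    rw [he₁, ← conj_pow, ← hy, ← he₂, ← h0, he₁]
  have hinter : ∀ z ∈ Subgroup.zpowers x, z ∈ Subgroup.zpowers y → z = 1 := by
    intro z hzx hzy
    by_contra hz1
    obtain ⟨w, hw, hwz⟩ := (two_of_mem S.2 (Subgroup.zpowers_le.mpr hxS hzx)).exists_involution hz1
    exact hne ((involution_unique ho₁ hw hx₁ (Subgroup.zpowers_le.mpr hzx hwz)).trans
      (involution_unique ho₂ hw hy₂ (Subgroup.zpowers_le.mpr hzy hwz)).symm)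
  have hxyS : ∀ a ∈ Subgroup.zpowers x, ∀ b ∈ Subgroup.zpowers y,
      a ∈ S ∧ b ∈ S ∧ Commute a b := fun a ha b hb =>
    ⟨Subgroup.zpowers_le.mpr hxS ha, Subgroup.zpowers_le.mpr hyS hb,
      hab a (Subgroup.zpowers_le.mpr hxS ha) b (Subgroup.zpowers_le.mpr hyS hb)⟩
  let ψ : ↥(Subgroup.zpowers x) × ↥(Subgroup.zpowers y) →* ↥(S : Subgroup G) :=
    MonoidHom.mk' (fun z => ⟨(z.1 : G) * z.2, (S : Subgroup G).mul_mem
      (hxyS _ z.1.2 _ z.2.2).1 (hxyS _ z.1.2 _ z.2.2).2.1⟩) (by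
      rintro ⟨a, b⟩ ⟨a', b'⟩
      apply Subtype.ext
      show (a : G) * a' * (b * b') = (a : G) * b * (a' * b')
      calc (a : G) * a' * (b * b') = a * (a' * b) * b' := by group
        _ = a * (b * a') * b' := by rw [(hxyS _ a'.2 _ b.2).2.2.eq]
        _ = _ := by group)
  have hinj : Function.Injective ψ := by
    rw [injective_iff_map_eq_one]
    rintro ⟨⟨a, ha⟩, ⟨b, hb⟩⟩ h0
    have h1 : a * b = 1 := congrArg Subtype.val h0
    rw [mul_eq_one_iff_eq_inv] at h1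
    have hb1 : b⁻¹ = 1 := hinter _ (h1 ▸ ha) (inv_mem hb)
    rw [inv_eq_one] at hb1
    subst hb1
    rw [inv_one] at h1
    subst h1
    rfl
  have hmemψ : ∀ a ∈ Subgroup.zpowers x, ∀ b ∈ Subgroup.zpowers y,
      ∃ z, (ψ z : G) = a * b := fun a ha b hb => ⟨(⟨a, ha⟩, ⟨b, hb⟩), rfl⟩
  obtain ⟨H, hH⟩ : ∃ H, H = ψ.range.map (S : Subgroup G).subtype := ⟨_, rfl⟩
  have hmH : ∀ a ∈ Subgroup.zpowers x, ∀ b ∈ Subgroup.zpowers y, a * b ∈ H := fun a ha b hb => by
    obtain ⟨z, hz⟩ := hmemψ a ha b hb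
    rw [hH, ← hz]
    exact ⟨_, ⟨z, rfl⟩, rfl⟩
  have h1H : e₁ ∈ H := by simpa using hmH e₁ hx₁ 1 (one_mem _)
  have h2H : e₂ ∈ H := by simpa using hmH 1 (one_mem _) e₂ hy₂
  have hΩH : ∀ w ∈ Ω, w ∈ H := by
    obtain ⟨a1, b1⟩ := orderOf_eq_two_iff'.mp ho₁
    obtain ⟨a2, b2⟩ := orderOf_eq_two_iff'.mp ho₂
    have hΩ₁ : e₁ ∈ Ω := (hmΩ _).mpr ⟨Subgroup.zpowers_le.mpr hxS hx₁, a1⟩
    have hΩ₂ : e₂ ∈ Ω := (hmΩ _).mpr ⟨Subgroup.zpowers_le.mpr hyS hy₂, a2⟩
    obtain ⟨w₀, hw₀H, hw₀Ω, hw₀L, heH⟩ : ∃ w₀ ∈ H, w₀ ∈ Ω ∧ w₀ ∉ L he ∧ e ∈ H := by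
      by_cases c1 : e₁ ∈ L he
      · have h1e := (hLcases e₁ c1).resolve_left b1
        refine ⟨e₂, h2H, hΩ₂, fun c2 => hne ?_, h1e ▸ h1H⟩
        rw [h1e, (hLcases e₂ c2).resolve_left b2]
      refine ⟨e₁, h1H, hΩ₁, c1, ?_⟩
      by_cases c2 : e₂ ∈ L he
      · exact (hLcases e₂ c2).resolve_left b2 ▸ h2H
      · refine (hLcases _ (hprod e₁ hΩ₁ c1 e₂ hΩ₂ c2)).resolve_left (fun h0 => hne ?_) ▸
          mul_mem h1H h2H
        rw [mul_eq_one_iff_eq_inv] at h0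
        rw [h0, inv_eq_of_mul_eq_one_right a2]
    intro w hw
    have hLH : ∀ z ∈ L he, z ∈ H := fun z hz => by
      rcases hLcases z hz with rfl | rfl
      · exact one_mem H
      · exact heH
    by_cases hwL : w ∈ L he
    · exact hLH w hwL
    · have := mul_mem (inv_mem hw₀H) (hLH _ (hprod w₀ hw₀Ω hw₀L w hw hwL))
      rwa [inv_mul_cancel_left] at this
  have hsurj : ∀ k : ℕ, ∀ s ∈ S, s ^ 2 ^ k = 1 → s ∈ H := by
    intro k
    induction k with
    | zero =>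
      intro s _ h1
      rw [pow_zero, pow_one] at h1
      rw [h1]; exact one_mem H
    | succ k ih =>
      intro s hs h1
      have hs2 : s * s ∈ H := ih _ ((S : Subgroup G).mul_mem hs hs) (by
        rw [← pow_two, ← pow_mul, ← pow_succ']; exact h1)
      rw [hH] at hs2
      obtain ⟨_, ⟨⟨⟨a, ha⟩, ⟨b, hb⟩⟩, rfl⟩, hz⟩ := hs2
      have hz : a * b = s * s := hz
      obtain ⟨i, rfl⟩ := mem_powers_iff_mem_zpowers.mpr ha
      obtain ⟨j, rfl⟩ := mem_powers_iff_mem_zpowers.mpr hb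
      simp only at hz
      have hc := (hxyS _ ha _ hb).2.2
      have h2 : (x ^ i * y ^ j) ^ 2 ^ (n + 1) = 1 := by
        rw [hz, ← pow_two, ← pow_mul, ← pow_succ']; exact hdvd s hs
      rw [hc.mul_pow, mul_eq_one_iff_eq_inv] at h2
      have hxi : (x ^ i) ^ 2 ^ (n + 1) = 1 :=
        hinter _ (pow_mem ha _) (h2 ▸ inv_mem (pow_mem hb _))
      rw [hxi, eq_comm, inv_eq_one] at h2
      have heven : ∀ {z : G} {l : ℕ}, orderOf z = 2 ^ (n + 2) → (z ^ l) ^ 2 ^ (n + 1) = 1 →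
          Even l := by
        intro z l hz hl
        rw [← pow_mul] at hl
        have := orderOf_dvd_of_pow_eq_one hl
        rw [hz, pow_succ' 2 (n + 1)] at this
        exact even_iff_two_dvd.mpr (Nat.dvd_of_mul_dvd_mul_right (by positivity) this)
      obtain ⟨i', rfl⟩ := heven hm hxi
      obtain ⟨j', rfl⟩ := heven hyo h2
      have hh : x ^ i' * y ^ j' ∈ H :=
        hmH _ (Subgroup.npow_mem_zpowers x i') _ (Subgroup.npow_mem_zpowers y j')
      obtain ⟨hiS, hjS, hij⟩ := hxyS _ (Subgroup.npow_mem_zpowers x i') _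
        (Subgroup.npow_mem_zpowers y j')
      have hhS := (S : Subgroup G).mul_mem hiS hjS
      have hcs : Commute s (x ^ i' * y ^ j')⁻¹ := (hab s hs _ hhS).inv_right
      have hsq : (x ^ i' * y ^ j') * (x ^ i' * y ^ j') = s * s := by
        rw [← hz, pow_add, pow_add]
        calc _ = x ^ i' * (y ^ j' * x ^ i') * y ^ j' := by group
          _ = x ^ i' * (x ^ i' * y ^ j') * y ^ j' := by rw [hij.eq]
          _ = _ := by group
      have h3 : s * (x ^ i' * y ^ j')⁻¹ ∈ H := by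
        refine hΩH _ ((hmΩ _).mpr ⟨(S : Subgroup G).mul_mem hs ((S : Subgroup G).inv_mem hhS), ?_⟩)
        calc s * (x ^ i' * y ^ j')⁻¹ * (s * (x ^ i' * y ^ j')⁻¹)
            = s * ((x ^ i' * y ^ j')⁻¹ * s) * (x ^ i' * y ^ j')⁻¹ := by group
          _ = s * (s * (x ^ i' * y ^ j')⁻¹) * (x ^ i' * y ^ j')⁻¹ := by rw [← hcs.eq]
          _ = (s * s) * ((x ^ i' * y ^ j') * (x ^ i' * y ^ j'))⁻¹ := by group
          _ = 1 := by rw [hsq, mul_inv_cancel]
      have := mul_mem h3 hh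
      rwa [inv_mul_cancel_right] at this
  have hbij : Function.Bijective ψ := by
    refine ⟨hinj, fun s => ?_⟩
    have hmem := hsurj (n + 2) s s.2 (hdvd s s.2)
    rw [hH] at hmem
    obtain ⟨_, ⟨z, rfl⟩, hz⟩ := hmem
    exact ⟨z, Subtype.ext hz⟩
  let ix : Multiplicative (ZMod (2 ^ (n + 2))) ≃* ↥(Subgroup.zpowers x) :=
    zmodMulEquivOfGenerator (g := ⟨x, Subgroup.mem_zpowers x⟩)
      (fun z => by obtain ⟨i, hi⟩ := z.2; exact ⟨i, Subtype.ext hi⟩)
      (by rw [Nat.card_zpowers, hm])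
  let iy : Multiplicative (ZMod (2 ^ (n + 2))) ≃* ↥(Subgroup.zpowers y) :=
    zmodMulEquivOfGenerator (g := ⟨y, Subgroup.mem_zpowers y⟩)
      (fun z => by obtain ⟨i, hi⟩ := z.2; exact ⟨i, Subtype.ext hi⟩)
      (by rw [Nat.card_zpowers, hyo])
  let E : (S : Subgroup G) ≃* Multiplicative (ZMod (2 ^ (n + 2)) × ZMod (2 ^ (n + 2))) :=
    (MulEquiv.ofBijective ψ hbij).symm.trans
      ((ix.symm.prodCongr iy.symm).trans (MulEquiv.prodMultiplicative _ _).symm)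
  have hnormal := (Cfsg.Agent.S0949.result S (n + 2) (by omega) E fun N hN hodd =>
    hN.eq_bot_or_eq_top.resolve_right fun h0 => by
      rw [h0, Subgroup.card_top] at hodd
      exact Nat.not_even_iff_odd.mpr hodd hev).1
  exact absurd hnormal (not_normal_sylow hna hev S)

end CfsgLib.NormCyclicEven16
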