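import Cfsg.Agent.NormCyclicEven16.SimpleTools
import Cfsg.Agent.S0508
import Cfsg.Agent.SmallIso.PSLTwo
import Cfsg.Agent.Dickson.Torus
import Cfsg.Agent.Chars.Apps.Burnside

/-!
Recognition from a dihedral Sylow `2`-subgroup.
-/

set_option autoImplicit false

namespace CfsgLib.NormCyclicEven16

/-- Isomorphic to `PSL₂` over a field with more than three elements. -/
def IsPSLTwo (G : Type*) [Group G] : Prop :=
  ∃ (F : Type) (_ : Field F) (_ : Fintype F), 3 < Fintype.card F ∧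
    Nonempty (G ≃* Matrix.ProjectiveSpecialLinearGroup (Fin 2) F)

variable {G : Type*} [Group G] [Finite G]

theorem isPSLTwo_of_odd [IsSimpleGroup G] (hna : ¬ IsMulCommutative G)
    (hG : ∃ (F : Type) (_ : Field F) (_ : Fintype F), Odd (Fintype.card F) ∧
      Nonempty (G ≃* Matrix.ProjectiveSpecialLinearGroup (Fin 2) F)) : IsPSLTwo G := by
  obtain ⟨F, iF, iFF, hodd, ⟨e⟩⟩ := hG
  refine ⟨F, iF, iFF, ?_, ⟨e⟩⟩
  have h2 : 2 ≤ Fintype.card F := Fintype.one_lt_card
  obtain ⟨m, hm⟩ := hodd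
  by_contra hle
  have h3 : Fintype.card F = 3 := by omega
  obtain ⟨e3⟩ := SmallIso.psl_two_card_three h3
  have hc : Nat.card G = 2 ^ 2 * 3 ^ 1 := by
    rw [Nat.card_congr (e.trans e3).toEquiv, nat_card_alternatingGroup, Nat.card_eq_fintype_card,
      Fintype.card_fin]
    decide
  have hs := Chars.Apps.isSolvable_of_card_eq_pow_mul_pow G Nat.prime_two Nat.prime_three hc
  exact hna (IsSimpleGroup.comm_iff_isSolvable.mpr hs |> fun hcomm => ⟨⟨hcomm⟩⟩)

/-- The dihedral case: `U` is the cyclic index-two subgroup of `S`. -/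
theorem Hyp.dihedral_final [IsSimpleGroup G] (hna : ¬ IsMulCommutative G) (h : Hyp G)
    (S : Sylow 2 G) {t : G} (ht : orderOf t = 2) (htS : t ∈ S)
    (htZ : ∀ s ∈ S, Commute s t) (U : Subgroup G) (hUS : U ≤ S) (hcyc : IsCyclic ↥U)
    (htU : t ∈ U) (hidx : U.relIndex (S : Subgroup G) = 2)
    (hout : ∀ g ∈ S, g ∉ U → g * g = 1)
    (hcent : oddPart h ht ≠ ⊥ →
      ∀ g ∈ S, (g ∈ U ↔ ∀ a ∈ oddPart h ht, Commute g a)) :
    IsPSLTwo G := by
  obtain ⟨O, hO⟩ : ∃ O, O = oddPart h ht := ⟨_, rfl⟩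
  have hn : 2 ≤ Nat.card ↥U := by
    have h1 : orderOf t ∣ Nat.card U := by
      have := orderOf_dvd_natCard (⟨t, htU⟩ : U)
      rwa [Subgroup.orderOf_mk] at this
    rw [ht] at h1
    exact Nat.le_of_dvd Nat.card_pos h1
  obtain ⟨T, hT⟩ : ∃ T, T = U.subgroupOf (S : Subgroup G) := ⟨_, rfl⟩
  haveI : IsCyclic ↥T := hT ▸ (Subgroup.subgroupOfEquivOfLe hUS).isCyclic.mpr hcyc
  have hcard : Nat.card ↥T = Nat.card ↥U :=
    hT ▸ Nat.card_congr (Subgroup.subgroupOfEquivOfLe hUS).toEquiv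
  have hdih := Dickson.nonempty_mulEquiv_dihedral_of_index_two T (hT ▸ hidx) (by
    intro g hg
    rw [hT, Subgroup.mem_subgroupOf] at hg
    exact Subtype.ext (hout g g.2 hg))
  rw [hcard] at hdih
  refine isPSLTwo_of_odd hna (Cfsg.Agent.S0508.result S (Nat.card ↥U) hn hdih t ht htS
    (fun s hs => (htZ s hs).eq) O (by rw [hO, oddCore_map_eq h ht]) ?_ ?_ ?_)
  · intro hne
    have heq : (S : Subgroup G) ⊓ Subgroup.centralizer (O : Set G) = U := by
      ext g
      rw [Subgroup.mem_inf, Subgroup.mem_centralizer_iff, hO]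
      constructor
      · rintro ⟨hgS, hg⟩
        exact (hcent (hO ▸ hne) g hgS).mpr fun a ha => (hg a ha).symm
      · intro hg
        exact ⟨hUS hg, fun a ha => ((hcent (hO ▸ hne) g (hUS hg)).mp hg a ha).symm⟩
    rw [heq]
    exact ⟨hcyc, hidx⟩
  · intro s hs hsO y hy
    rw [hO] at hy hsO
    have hne : oddPart h ht ≠ ⊥ := fun h0 => hsO (by
      rw [h0]
      simp [Subgroup.mem_centralizer_iff])
    have hsU : s ∉ U := fun hsU => hsO (Subgroup.mem_centralizer_iff.mpr fun a ha =>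
      (((hcent hne s hs).mp hsU) a ha).symm)
    have hs2 : orderOf s = 2 :=
      orderOf_eq_two_iff'.mpr ⟨hout s hs hsU, fun h1 => hsU (h1 ▸ one_mem U)⟩
    rcases h.commute_or_inverts ht hs2 (htZ s hs) with hl | hr
    · exact absurd (Subgroup.mem_centralizer_iff.mpr fun a ha =>
        ((hl a).mpr (mem_oddPart.mp ha).1).eq) hsO
    · exact hr y hy
  · intro Y hY hYne g hg
    rw [hO] at hY
    obtain ⟨a, ha, ha1⟩ := Y.bot_or_exists_ne_one.resolve_left hYne
    obtain ⟨hat, haodd⟩ := hY ha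
    have hga : g * a * g⁻¹ ∈ oddPart h ht := hY ((Subgroup.mem_normalizer_iff.mp hg a).mp ha)
    have hga1 : g * a * g⁻¹ ≠ 1 := fun h1 => ha1 (by simpa using h1)
    have ht' : orderOf (g * t * g⁻¹) = 2 := (orderOf_conj' g t).trans ht
    have hiff : ∀ x, Commute x (g * t * g⁻¹) ↔ Commute x t :=
      h.commute_iff_of_common ht hga hga1 ht' ((commute_conj_iff g t a).mpr hat.symm)
    obtain ⟨b, hb, hbS⟩ := h.exists_conj_mem ht S htZ (two_of_orderOf_eq_two ht')
      ((hiff _).mp (Commute.refl _))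
    have hbt' : Commute b (g * t * g⁻¹) := (hiff b).mpr hb.1
    rw [show b⁻¹ * (g * t * g⁻¹) * b = g * t * g⁻¹ by
      rw [mul_assoc b⁻¹, ← hbt'.eq, inv_mul_cancel_left]] at hbS
    have hne : oddPart h ht ≠ ⊥ := fun h0 => ha1 (by simpa [h0] using hY ha)
    have hU' : g * t * g⁻¹ ∈ U := (hcent hne _ hbS).mpr fun c hc => ((hiff c).mpr hc.1).symm
    obtain ⟨u, hu⟩ := hcyc.exists_generator
    have hz : ∀ x ∈ U, x ∈ Subgroup.zpowers (u : G) := fun x hx => by
      obtain ⟨i, hi⟩ := hu ⟨x, hx⟩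
      exact ⟨i, congrArg Subtype.val hi⟩
    have heq : g * t * g⁻¹ = t := involution_unique ht' ht (hz _ hU') (hz _ htU)
    exact mem_centralizer_singleton_iff'.mpr (mul_inv_eq_iff_eq_mul.mp heq)

end CfsgLib.NormCyclicEven16
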