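import Cfsg.Agent.NormCyclicEven16.Simple
import Cfsg.Agent.NormCyclicEven16.Field
import Cfsg.Agent.S0721
import Cfsg.Agent.S0205

/-!
Reduction to the almost simple case and the final identification.
-/

set_option autoImplicit false

namespace CfsgLib.NormCyclicEven16

variable {G : Type*} [Group G] [Finite G]

theorem eq_one_of_centralizes_simple (h : Hyp G) {T : Type*} [Group T] [IsSimpleGroup T] [Finite T]
    (hna : ¬ IsMulCommutative T) (hev : Even (Nat.card T)) (f : T →* G)
    (hf : Function.Injective f) {c : G} (hc : ∀ x, Commute c (f x)) : c = 1 := by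
  by_contra hc1
  rcases Nat.even_or_odd (orderOf c) with ⟨m, hm⟩ | hodd
  · -- an involution centralising `T`
    have hm0 : m ≠ 0 := by have := orderOf_pos c; omega
    have hu : orderOf (c ^ m) = 2 := by
      rw [orderOf_eq_two_iff']
      refine ⟨by rw [← pow_add, ← hm, pow_orderOf_eq_one], fun h0 => ?_⟩
      have := Nat.le_of_dvd (Nat.pos_of_ne_zero hm0) (orderOf_dvd_of_pow_eq_one h0)
      omega
    obtain ⟨A, hA⟩ : ∃ A, A = (oddPart h hu).comap f := ⟨_, rfl⟩
    have hmA : ∀ x, x ∈ A ↔ Odd (orderOf x) := fun x => by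
      rw [hA, Subgroup.mem_comap, mem_oddPart, orderOf_injective f hf]
      exact and_iff_right ((hc x).symm.pow_right m)
    have hAn : A.Normal := ⟨fun x hx g => by
      rw [hmA] at hx ⊢
      rwa [orderOf_conj']⟩
    rcases hAn.eq_bot_or_eq_top with e | e
    · have hp : IsPGroup 2 T := by
        intro x
        refine ⟨(orderOf x).factorization 2, ?_⟩
        have hmem : x ^ 2 ^ (orderOf x).factorization 2 ∈ A := by
          rw [hmA, orderOf_pow_of_dvd (by positivity) (Nat.ordProj_dvd _ _),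
            ← Nat.not_even_iff_odd, even_iff_two_dvd]
          exact Nat.not_dvd_ordCompl Nat.prime_two (orderOf_pos _).ne'
        rwa [e, Subgroup.mem_bot] at hmem
      haveI := Fact.mk Nat.prime_two
      haveI : Nontrivial T := IsSimpleGroup.toNontrivial
      exact (Subgroup.nontrivial_iff_ne_bot _).mp hp.center_nontrivial (center_eq_bot_of_simple hna)
    · refine hna ⟨⟨fun a b => hf ?_⟩⟩
      rw [map_mul, map_mul]
      have hmem : ∀ x, f x ∈ oddPart h hu := fun x => by
        rw [← Subgroup.mem_comap, ← hA, e]; exact Subgroup.mem_top x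
      exact (h.oddPart_comm hu _ (hmem a) _ (hmem b)).eq
  · haveI := Fact.mk Nat.prime_two
    obtain ⟨t, ht⟩ := exists_prime_orderOf_dvd_card' 2 (even_iff_two_dvd.mp hev)
    have hft : orderOf (f t) = 2 := (orderOf_injective f hf t).trans ht
    have hmem : t ∈ Subgroup.center T := Subgroup.mem_center_iff.mpr fun x => hf (by
      rw [map_mul, map_mul]
      exact (h.commute_of_commute_odd hft (hc t) hodd hc1 (hc x).symm).eq)
    rw [center_eq_bot_of_simple hna, Subgroup.mem_bot] at hmem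
    exact (orderOf_eq_two_iff'.mp ht).2 hmem

theorem Hyp.exists_socle [Nontrivial G] (h : Hyp G)
    (hss : ∀ N : Subgroup G, N.Normal → Group.IsSolvable ↥N → N = ⊥) :
    ∃ N : Subgroup G, N.Normal ∧ IsSimpleGroup ↥N ∧ ¬ IsMulCommutative ↥N ∧
      Even (Nat.card ↥N) ∧ Subgroup.centralizer (N : Set G) = ⊥ := by
  haveI : Finite (Subgroup G) :=
    Finite.of_injective (fun H : Subgroup G => (H : Set G)) SetLike.coe_injective
  obtain ⟨N, ⟨hN, hN1⟩, hmin⟩ := wellFounded_lt.has_min {N : Subgroup G | N.Normal ∧ N ≠ ⊥}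
    ⟨⊤, inferInstance, top_ne_bot⟩
  haveI := hN
  obtain ⟨T, iT, m, hT, hm, ⟨e⟩⟩ := Cfsg.Agent.S0721.result N hN1 (fun M hM hMN => by
    by_contra hcon
    push Not at hcon
    exact hmin M ⟨hM, hcon.1⟩ (lt_of_le_of_ne hMN hcon.2))
  haveI : Nonempty (Fin m) := ⟨⟨0, hm⟩⟩
  let inj : Fin m → T →* G := fun i =>
    N.subtype.comp (e.symm.toMonoidHom.comp (MonoidHom.mulSingle (fun _ : Fin m => T) i))
  have hinj : ∀ i, Function.Injective (inj i) := fun i x y hxy =>
    Pi.mulSingle_injective (M := fun _ : Fin m => T) i (e.symm.injective (N.subtype_injective hxy))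
  haveI : Finite T := Finite.of_injective _ (hinj ⟨0, hm⟩)
  have hna : ¬ IsMulCommutative T := by
    intro hc
    exact hN1 (hss N hN (Group.isSolvable_of_comm fun a b => e.injective (by
      rw [map_mul, map_mul]
      funext i
      exact hc.1.1 _ _)))
  have hev : Even (Nat.card T) := by
    by_contra hodd
    have hs := Cfsg.Agent.S0205.result (Nat.not_even_iff_odd.mp hodd)
    exact hna (IsSimpleGroup.comm_iff_isSolvable.mpr hs |> fun hcomm => ⟨⟨hcomm⟩⟩)
  have hm1 : m = 1 := by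
    by_contra hne
    haveI : Nontrivial T := IsSimpleGroup.toNontrivial
    obtain ⟨x, hx⟩ := exists_ne (1 : T)
    have h01 : (⟨0, hm⟩ : Fin m) ≠ ⟨1, by omega⟩ := by simp [Fin.ext_iff]
    have := eq_one_of_centralizes_simple h hna hev (inj ⟨0, hm⟩) (hinj _)
      (c := inj ⟨1, by omega⟩ x) fun y => by
        refine Commute.map ?_ N.subtype
        refine Commute.map ?_ e.symm.toMonoidHom
        exact Pi.mulSingle_commute (f := fun _ : Fin m => T) (Ne.symm h01) x y
    exact hx (hinj _ (this.trans (map_one _).symm))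
  subst hm1
  let e' : ↥N ≃* T := e.trans (MulEquiv.piUnique fun _ : Fin 1 => T)
  have hsimple : IsSimpleGroup ↥N := e'.isSimpleGroup
  refine ⟨N, hN, hsimple, fun hc => hna ⟨⟨fun a b => e'.symm.injective (by
    rw [map_mul, map_mul]; exact hc.1.1 _ _)⟩⟩, (Nat.card_congr e'.toEquiv).symm ▸ hev, ?_⟩
  rw [Subgroup.eq_bot_iff_forall]
  intro c hc
  exact eq_one_of_centralizes_simple h hna hev (N.subtype.comp e'.symm.toMonoidHom)
    (N.subtype_injective.comp e'.symm.injective)
    fun x => (Subgroup.mem_centralizer_iff.mp hc _ (e'.symm x).2).symm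

/-- The almost simple case. -/
theorem Hyp.almost_simple (h : Hyp G) (N : Subgroup G) [N.Normal]
    (hC : Subgroup.centralizer (N : Set G) = ⊥) (F : Type) [Field F] [Fintype F]
    (h3 : 3 < Fintype.card F) (h4 : Fintype.card F ≠ 4)
    (e : ↥N ≃* Matrix.ProjectiveSpecialLinearGroup (Fin 2) F) :
    Nonempty (G ≃* Matrix.ProjectiveSpecialLinearGroup (Fin 2) F) ∨
      Nonempty (G ≃* Matrix.ProjGenLinGroup (Fin 2) F) := by
  let ψ : G →* MulAut (Matrix.ProjectiveSpecialLinearGroup (Fin 2) F) :=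
    (MulAut.congr e).toMonoidHom.comp MulAut.conjNormal
  have hψinj : Function.Injective ψ := by
    rw [injective_iff_map_eq_one]
    intro g hg
    have h1 : (MulAut.conjNormal g : MulAut ↥N) = 1 :=
      (MulAut.congr e).injective (by rw [map_one]; exact hg)
    have hmem : g ∈ Subgroup.centralizer (N : Set G) :=
      Subgroup.mem_centralizer_iff.mpr fun x hx => by
        have := congrArg (fun a : MulAut ↥N => ((a ⟨x, hx⟩ : ↥N) : G)) h1
        simp only [MulAut.conjNormal_apply, MulAut.one_apply] at this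
        exact (mul_inv_eq_iff_eq_mul.mp this).symm
    rw [hC, Subgroup.mem_bot] at hmem
    exact hmem
  have hψN : ∀ n : ↥N, ψ n = MulAut.conj (e n) := fun n => by
    refine MulEquiv.ext fun x => ?_
    show e (MulAut.conjNormal (n : G) (e.symm x)) = e n * x * (e n)⁻¹
    rw [show MulAut.conjNormal (n : G) (e.symm x) = n * e.symm x * n⁻¹ from
      Subtype.ext (MulAut.conjNormal_apply _ _), map_mul, map_mul, map_inv, e.apply_symm_apply]
  have hInn : Cfsg.Inn (Matrix.ProjectiveSpecialLinearGroup (Fin 2) F) ≤ ψ.range := by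
    rintro _ ⟨x, rfl⟩
    exact ⟨(e.symm x : ↥N), by rw [hψN, e.apply_symm_apply]⟩
  have hH : Hyp ↥ψ.range := h.of_injective (MonoidHom.ofInjective hψinj).symm.toMonoidHom
    (MonoidHom.ofInjective hψinj).symm.injective
  have hle := le_diagGroup hH hInn h3 h4
  by_cases hcase : ψ.range ≤ Cfsg.Inn (Matrix.ProjectiveSpecialLinearGroup (Fin 2) F)
  · left
    have htop : N = ⊤ := by
      refine (Subgroup.eq_top_iff' N).mpr fun g => ?_
      obtain ⟨x, hx⟩ := hcase ⟨g, rfl⟩
      have hg : ψ g = ψ ((e.symm x : ↥N) : G) := by rw [hψN, e.apply_symm_apply]; exact hx.symm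
      rw [hψinj hg]
      exact (e.symm x).2
    exact ⟨((Subgroup.topEquiv (G := G)).symm.trans
      (MulEquiv.subgroupCongr htop.symm)).trans e⟩
  right
  obtain ⟨β, hβ, hβI⟩ := SetLike.not_le_iff_exists.mp hcase
  obtain ⟨g₀, rfl⟩ := hle hβ
  obtain ⟨ν, hν⟩ := IsCyclic.exists_generator (α := Fˣ)
  have hsq : ∀ u : Fˣ, (∃ c : Fˣ, u = c ^ 2) ∨ ∃ c : Fˣ, u = ν * c ^ 2 := by
    intro u
    obtain ⟨i, rfl⟩ := mem_powers_iff_mem_zpowers.mpr (hν u)
    rcases Nat.even_or_odd i with ⟨j, rfl⟩ | ⟨j, rfl⟩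
    · exact Or.inl ⟨ν ^ j, by rw [← pow_mul, Nat.mul_two]⟩
    · exact Or.inr ⟨ν ^ j, by show ν ^ (2 * j + 1) = _; rw [← pow_mul, pow_succ', mul_comm j 2]⟩
  have heq : ψ.range = AutPSL.diagGroup := by
    refine le_antisymm hle ?_
    rintro _ ⟨g, rfl⟩
    rcases hsq (Matrix.GeneralLinearGroup.det g) with ⟨c, hc⟩ | ⟨c, hc⟩
    · exact hInn (conjPSL_mem_inn_of_square g c hc)
    rcases hsq (Matrix.GeneralLinearGroup.det g₀) with ⟨c₀, hc₀⟩ | ⟨c₀, hc₀⟩
    · exact absurd (conjPSL_mem_inn_of_square g₀ c₀ hc₀) hβI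
    have hdet : Matrix.GeneralLinearGroup.det (g * g₀⁻¹) = (c * c₀⁻¹) ^ 2 := by
      rw [map_mul, map_inv, hc, hc₀, mul_pow, inv_pow, mul_inv_rev, mul_comm (c₀ ^ 2)⁻¹,
        mul_assoc, ← mul_assoc (c ^ 2), mul_comm (c ^ 2) ν⁻¹, mul_assoc, mul_inv_cancel_left]
    have h2 : (AutPSL.conjHom (g * g₀⁻¹) :
        MulAut (Matrix.ProjectiveSpecialLinearGroup (Fin 2) F)) * AutPSL.conjHom g₀ ∈ ψ.range :=
      mul_mem (hInn (conjPSL_mem_inn_of_square _ _ hdet)) hβ
    rwa [← map_mul, inv_mul_cancel_right] at h2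
  have hker : (AutPSL.conjHom : GL (Fin 2) F →*
      MulAut (Matrix.ProjectiveSpecialLinearGroup (Fin 2) F)).ker =
      Subgroup.center (GL (Fin 2) F) := by
    ext g
    exact AutPSL.conjPSL_eq_one_iff le_rfl
  exact ⟨((MonoidHom.ofInjective hψinj).trans (MulEquiv.subgroupCongr heq)).trans
    ((QuotientGroup.quotientKerEquivRange _).symm.trans (QuotientGroup.quotientMulEquivOfEq hker))⟩

/-- The classification of the groups satisfying the hypothesis. -/
theorem Hyp.classification [Nontrivial G] (h : Hyp G)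
    (hss : ∀ N : Subgroup G, N.Normal → Group.IsSolvable ↥N → N = ⊥) :
    ∃ (F : Type) (_ : Field F) (_ : Fintype F), 3 < Fintype.card F ∧
      (Nonempty (G ≃* Matrix.ProjectiveSpecialLinearGroup (Fin 2) F) ∨
        Nonempty (G ≃* Matrix.ProjGenLinGroup (Fin 2) F)) := by
  obtain ⟨N, hN, hsimple, hna, hev, hC⟩ := h.exists_socle hss
  haveI := hN
  haveI := hsimple
  obtain ⟨F, iF, iFF, h3, ⟨e⟩⟩ :=
    (h.of_injective N.subtype N.subtype_injective).simple_case hna hev
  by_cases h4 : Fintype.card F = 4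
  · haveI : Fact (Nat.Prime 5) := ⟨by norm_num⟩
    obtain ⟨e4⟩ := SmallIso.psl_two_card_four h4
    obtain ⟨e5⟩ := SmallIso.psl_two_card_five (F := ZMod 5) (ZMod.card 5)
    exact ⟨ZMod 5, inferInstance, inferInstance, by rw [ZMod.card]; norm_num,
      h.almost_simple N hC (ZMod 5) (by rw [ZMod.card]; norm_num) (by rw [ZMod.card]; norm_num)
        ((e.trans e4).trans e5.symm)⟩
  · exact ⟨F, iF, iFF, h3, h.almost_simple N hC F h3 h4 e⟩

end CfsgLib.NormCyclicEven16
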