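import Cfsg.Agent.NormCyclicEven16.Dihedral
import Cfsg.Agent.NormCyclicEven16.TwoGroup
import Cfsg.Agent.SymplecticType.Burnside

/-!
A Sylow `2`-subgroup with a single square involution.
-/

set_option autoImplicit false

namespace CfsgLib.NormCyclicEven16

variable {G : Type*} [Group G] [Finite G]

theorem xor_mem_of {U : Subgroup G} {s b : G} (hs : s ∉ U) (h : b ∈ U ∨ s * b ∈ U) :
    Xor (s * b ∈ U) (b ∈ U) := by
  rcases h with hb | hb
  · exact Or.inr ⟨hb, fun hsb => hs (by simpa using mul_mem hsb (inv_mem hb))⟩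
  · exact Or.inl ⟨hb, fun hbU => hs (by simpa using mul_mem hb (inv_mem hbU))⟩

theorem relIndex_eq_two_of {U S : Subgroup G} {s : G} (hsS : s ∈ S) (hs : s ∉ U)
    (h : ∀ g ∈ S, g ∈ U ∨ s * g ∈ U) : U.relIndex S = 2 := by
  unfold Subgroup.relIndex
  rw [Subgroup.index_eq_two_iff']
  refine ⟨⟨s, hsS⟩, fun b => ?_⟩
  simp only [Subgroup.mem_subgroupOf, Subgroup.coe_mul]
  exact xor_mem_of hs (h b b.2)

/-- In a single-square Sylow subgroup, a conjugate of the square involution commutes with no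
element of order four. -/
theorem Hyp.not_commute_root (h : Hyp G) (S : Sylow 2 G) {t : G} (ht : orderOf t = 2)
    (hZ : ∀ g ∈ S, Commute g t) (huniq : ∀ y, Root (S : Subgroup G) y → y * y = t) {c : G}
    (hne : c * t * c⁻¹ ≠ t) {y : G} (hy : Root (S : Subgroup G) y) :
    ¬ Commute (c * t * c⁻¹) y := by
  intro hc
  have h1 : Commute (c⁻¹ * y * c) t := by
    have := (commute_conj_iff c⁻¹ y (c * t * c⁻¹)).mpr hc.symm
    rwa [inv_inv, show c⁻¹ * (c * t * c⁻¹) * c = t by group] at this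
  have h2 : Two (c⁻¹ * y * c) := by
    simpa using (two_of_mem S.2 hy.1).conj c⁻¹
  obtain ⟨a, ha, haS⟩ := h.exists_conj_mem ht S hZ h2 h1
  have hsq : (a⁻¹ * (c⁻¹ * y * c) * a) * (a⁻¹ * (c⁻¹ * y * c) * a) = a⁻¹ * (c⁻¹ * t * c) * a := by
    rw [← huniq y hy]; group
  have hroot : Root (S : Subgroup G) (a⁻¹ * (c⁻¹ * y * c) * a) := by
    refine ⟨haS, ?_, fun h1 => ?_⟩
    · rw [show (4 : ℕ) = 2 * 2 by norm_num, pow_mul, pow_two (a⁻¹ * (c⁻¹ * y * c) * a), hsq, pow_two]
      calc _ = a⁻¹ * c⁻¹ * (t * t) * c * a := by group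
        _ = 1 := by rw [(orderOf_eq_two_iff'.mp ht).1]; group
    · rw [hsq] at h1
      refine (orderOf_eq_two_iff'.mp ht).2 ?_
      calc t = c * a * (a⁻¹ * (c⁻¹ * t * c) * a) * (c * a)⁻¹ := by group
        _ = 1 := by rw [h1]; group
  have h3 := huniq _ hroot
  rw [hsq] at h3
  refine hne ?_
  have hta : c⁻¹ * t * c = t := by
    calc c⁻¹ * t * c = a * (a⁻¹ * (c⁻¹ * t * c) * a) * a⁻¹ := by group
      _ = a * t * a⁻¹ := by rw [h3]
      _ = t := by rw [ha.1.eq, mul_inv_cancel_right]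
  calc c * t * c⁻¹ = c * (c⁻¹ * t * c) * c⁻¹ := by rw [hta]
    _ = t := by group

theorem Hyp.single_case [IsSimpleGroup G] (hna : ¬ IsMulCommutative G) (h : Hyp G) (S : Sylow 2 G)
    {p : G} (hp : Root (S : Subgroup G) p)
    (huniq : ∀ y, Root (S : Subgroup G) y → y * y = p * p) : IsPSLTwo G := by
  obtain ⟨t, htdef⟩ : ∃ t, t = p * p := ⟨_, rfl⟩
  rw [← htdef] at huniq
  have ht : orderOf t = 2 := htdef ▸ hp.orderOf_sq
  have ht1 := (orderOf_eq_two_iff'.mp ht).2
  have htt := (orderOf_eq_two_iff'.mp ht).1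
  have htS : t ∈ S := htdef ▸ (S : Subgroup G).mul_mem hp.1 hp.1
  have htZ : ∀ g ∈ S, Commute g t := fun g hg => htdef ▸ h.root_central S.2 hp g hg
  have hno : ∀ c, c * t * c⁻¹ ∈ S → c * t * c⁻¹ ≠ t →
      ∀ y, Root (S : Subgroup G) y → ¬ Commute (c * t * c⁻¹) y :=
    fun c _ hne y hy => h.not_commute_root S ht htZ huniq hne hy
  have huniq' : ∀ y y', Root (S : Subgroup G) y → Root (S : Subgroup G) y' → y * y = y' * y' :=
    fun y y' hy hy' => (huniq y hy).trans (huniq y' hy').symm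
  obtain ⟨c, hcS, hcne⟩ := exists_conj_ne hna S ht htS
  obtain ⟨s, hsdef⟩ : ∃ s, s = c * t * c⁻¹ := ⟨_, rfl⟩
  have hs : orderOf s = 2 := hsdef ▸ (orderOf_conj' c t).trans ht
  have hss := (orderOf_eq_two_iff'.mp hs).1
  have hsinv : s⁻¹ = s := inv_eq_of_mul_eq_one_right hss
  rw [← hsdef] at hcS hcne
  obtain ⟨hsU, hdec, hinv, hcomm⟩ := h.single_square S.2 hcS
    (fun y hy => hsdef ▸ hno c (hsdef ▸ hcS) (hsdef ▸ hcne) y hy) huniq' hp
  obtain ⟨U, hU⟩ : ∃ U, U = (S : Subgroup G) ⊓ Subgroup.centralizer ({p} : Set G) := ⟨_, rfl⟩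
  rw [← hU] at hsU hdec hinv hcomm
  have hmU : ∀ g, g ∈ U ↔ g ∈ S ∧ Commute g p := fun g => by
    rw [hU, Subgroup.mem_inf, Subgroup.mem_centralizer_singleton_iff]; rfl
  have htpc : Commute t p := htdef ▸ (Commute.refl p).mul_left (Commute.refl p)
  have htU : t ∈ U := (hmU t).mpr ⟨htS, htpc⟩
  have hout : ∀ g ∈ S, g ∉ U → g * g = 1 := by
    intro g hg hgU
    have h1 := hinv (s * g) ((hdec g hg).resolve_left hgU)
    rw [mul_inv_rev, hsinv, show s * (s * g) * s = (s * s) * g * s by group, hss, one_mul] at h1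
    have h2 : g = g⁻¹ := mul_right_cancel h1
    nth_rewrite 2 [h2]
    exact mul_inv_cancel g
  -- `U` has a single involution
  have honly : ∀ w ∈ U, w * w = 1 → w = 1 ∨ w = t := by
    intro w hw hww
    by_contra hcon
    push Not at hcon
    obtain ⟨hw1, hwt⟩ := hcon
    have hsw : Commute s w := by
      have h1 := hinv w hw
      rw [inv_eq_of_mul_eq_one_right hww] at h1
      exact mul_inv_eq_iff_eq_mul.mp h1
    have hP2 : IsPGroup 2 ↥(((S : Subgroup G) ⊓ Subgroup.centralizer ({s} : Set G)).map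
        (MulAut.conj c⁻¹).toMonoidHom) :=
      (S.2.to_le inf_le_left).map _
    obtain ⟨a, ha, hP⟩ := h.exists_conj_le ht S htZ hP2 (by
      rintro _ ⟨x, ⟨-, hx⟩, rfl⟩
      have hxs : Commute x s := mem_centralizer_singleton_iff'.mp hx
      have := (commute_conj_iff c⁻¹ x s).mpr hxs
      rw [inv_inv] at this
      rw [MulEquiv.coe_toMonoidHom, MulAut.conj_apply, inv_inv]
      rwa [hsdef, show c⁻¹ * (c * t * c⁻¹) * c = t by group] at this)
    obtain ⟨d, hd⟩ : ∃ d, d = a⁻¹ * c⁻¹ := ⟨_, rfl⟩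
    have hdS : ∀ x ∈ S, Commute x s → d * x * d⁻¹ ∈ S := by
      intro x hx hxs
      have := hP _ ⟨x, ⟨hx, mem_centralizer_singleton_iff'.mpr hxs⟩, rfl⟩
      simpa [hd, MulAut.conj_apply, mul_assoc] using this
    have hds : d * s * d⁻¹ = t := by
      calc d * s * d⁻¹ = a⁻¹ * t * a := by rw [hd, hsdef]; group
        _ = t := by rw [mul_assoc, ← ha.1.eq, inv_mul_cancel_left]
    obtain ⟨t', ht'def⟩ : ∃ t', t' = d * t * d⁻¹ := ⟨_, rfl⟩
    have ht'S : t' ∈ S := ht'def ▸ hdS t htS (htZ s hcS).symm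
    have ht'ne : t' ≠ t := fun h0 => hcne (by
      have h1 : d * t * d⁻¹ = d * s * d⁻¹ := by rw [← ht'def, h0, hds]
      exact (mul_left_cancel (mul_right_cancel h1)).symm)
    have ht'2 : orderOf t' = 2 := ht'def ▸ (orderOf_conj' d t).trans ht
    have ht'root : ∀ y, Root (S : Subgroup G) y → ¬ Commute t' y :=
      fun y hy => ht'def ▸ hno d (ht'def ▸ ht'S) (ht'def ▸ ht'ne) y hy
    obtain ⟨ht'U, hdec', -, -⟩ := h.single_square S.2 ht'S ht'root huniq' hp
    rw [← hU] at ht'U hdec'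
    -- one of `w`, `t * w` is carried into `U`
    obtain ⟨w₀, hw₀U, hw₀1, hw₀t, hw₀2, hw₀'⟩ : ∃ w₀ ∈ U, w₀ ≠ 1 ∧ w₀ ≠ t ∧ w₀ * w₀ = 1 ∧
        d * w₀ * d⁻¹ ∈ U := by
      rcases hdec' (d * w * d⁻¹) (hdS w ((hmU w).mp hw).1 hsw.symm) with e | e
      · exact ⟨w, hw, hw1, hwt, hww, e⟩
      · refine ⟨t * w, mul_mem htU hw, fun h0 => hwt ?_, fun h0 => hw1 (mul_eq_left.mp h0), ?_, ?_⟩
        · rw [mul_eq_one_iff_eq_inv] at h0
          rw [h0, inv_eq_of_mul_eq_one_right hww]
        · calc t * w * (t * w) = t * (w * t) * w := by group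
            _ = t * (t * w) * w := by rw [(hcomm w hw t htU).eq]
            _ = (t * t) * (w * w) := by group
            _ = 1 := by rw [htt, hww, one_mul]
        · rwa [ht'def, show d * t * d⁻¹ * (d * w * d⁻¹) = d * (t * w) * d⁻¹ by group] at e
    have hw₀o : orderOf w₀ = 2 := orderOf_eq_two_iff'.mpr ⟨hw₀2, hw₀1⟩
    have hsw₀ : Commute s w₀ := by
      have h1 := hinv w₀ hw₀U
      rw [inv_eq_of_mul_eq_one_right hw₀2] at h1
      exact mul_inv_eq_iff_eq_mul.mp h1
    have hpw : Commute p w₀ := ((hmU w₀).mp hw₀U).2.symm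
    have htw : Commute t w₀ := hcomm t htU w₀ hw₀U
    obtain ⟨p', hp'def⟩ : ∃ p', p' = d⁻¹ * p * d := ⟨_, rfl⟩
    have hp'w : Commute p' w₀ := by
      have := (commute_conj_iff d⁻¹ p (d * w₀ * d⁻¹)).mpr ((hmU _).mp hw₀').2.symm
      rwa [inv_inv, ← hp'def, show d⁻¹ * (d * w₀ * d⁻¹) * d = w₀ by group] at this
    have hp't : p' * t * p'⁻¹ = s * t := by
      have e := h.root_conj_of_not_commute S.2 hp ht'S (ht'root p hp)
      have e' : p * t' * p⁻¹ = p * p * t' := by
        calc p * t' * p⁻¹ = p * (t' * p⁻¹ * t'⁻¹) * t' := by group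
          _ = p * (t' * p * t'⁻¹)⁻¹ * t' := by group
          _ = p * p * t' := by rw [e, inv_inv]
      calc p' * t * p'⁻¹ = d⁻¹ * (p * t' * p⁻¹) * d := by rw [hp'def, ht'def]; group
        _ = d⁻¹ * t * d * (d⁻¹ * t' * d) := by rw [e', ← htdef]; group
        _ = d⁻¹ * (d * s * d⁻¹) * d * (d⁻¹ * t' * d) := by rw [hds]
        _ = s * t := by rw [ht'def]; group
    have hps : p * s * p⁻¹ = t * s := by
      have e := h.root_conj_of_not_commute S.2 hp hcS
        (hsdef ▸ hno c (hsdef ▸ hcS) (hsdef ▸ hcne) p hp)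
      calc p * s * p⁻¹ = p * (s * p * s⁻¹)⁻¹ * s := by group
        _ = t * s := by rw [e, inv_inv, htdef]
    have hp's : Commute p' s := by
      have h1 : Commute p (d * s * d⁻¹) := by rw [hds]; exact htpc.symm
      have := (commute_conj_iff d⁻¹ p (d * s * d⁻¹)).mpr h1
      rwa [inv_inv, ← hp'def, show d⁻¹ * (d * s * d⁻¹) * d = s by group] at this
    obtain ⟨k, hk⟩ : ∃ k, k = p * p' := ⟨_, rfl⟩
    have hst : Commute s t := htZ s hcS
    have hks : k * s * k⁻¹ = t * s := by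
      calc k * s * k⁻¹ = p * (p' * s * p'⁻¹) * p⁻¹ := by rw [hk]; group
        _ = t * s := by rw [hp's.eq, mul_inv_cancel_right, hps]
    have hkt : k * t * k⁻¹ = s := by
      calc k * t * k⁻¹ = p * (p' * t * p'⁻¹) * p⁻¹ := by rw [hk]; group
        _ = p * (s * t) * p⁻¹ := by rw [hp't]
        _ = (p * s * p⁻¹) * (p * t * p⁻¹) := by group
        _ = t * (s * t) := by rw [hps, ← htpc.eq, mul_inv_cancel_right, mul_assoc]
        _ = t * (t * s) := by rw [hst.eq]
        _ = s := by rw [← mul_assoc, htt, one_mul]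
    obtain ⟨P, hPdef⟩ : ∃ P, P = Subgroup.closure ({s, t} : Set G) := ⟨_, rfl⟩
    have hsP : s ∈ P := hPdef ▸ Subgroup.subset_closure (Or.inl rfl)
    have htP : t ∈ P := hPdef ▸ Subgroup.subset_closure (Or.inr rfl)
    have hPk : ∀ x ∈ P, k * x * k⁻¹ ∈ P := by
      intro x hx
      rw [hPdef] at hx
      induction hx using Subgroup.closure_induction with
      | mem y hy =>
        rcases hy with rfl | rfl
        · rw [hks]; exact mul_mem htP hsP
        · rw [hkt]; exact hsP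
      | one => simp
      | mul y z _ _ hy hz =>
        rw [show k * (y * z) * k⁻¹ = (k * y * k⁻¹) * (k * z * k⁻¹) by group]
        exact mul_mem hy hz
      | inv y _ hy =>
        rw [show k * y⁻¹ * k⁻¹ = (k * y * k⁻¹)⁻¹ by group]
        exact inv_mem hy
    have hPn : ∀ n : ℕ, ∀ x ∈ P, k ^ n * x * (k ^ n)⁻¹ ∈ P := by
      intro n
      induction n with
      | zero => simp
      | succ n ih =>
        intro x hx
        have := hPk _ (ih x hx)
        simpa [pow_succ', mul_assoc] using this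
    have hPS : P ≤ (S : Subgroup G) := hPdef ▸ (Subgroup.closure_le _).mpr (by
      rintro y (rfl | rfl)
      · exact hcS
      · exact htS)
    have hk3 : Commute (k ^ 3) s := by
      refine mul_inv_eq_iff_eq_mul.mp ?_
      have h2 : k * (t * s) * k⁻¹ = t := by
        calc k * (t * s) * k⁻¹ = (k * t * k⁻¹) * (k * s * k⁻¹) := by group
          _ = s * (t * s) := by rw [hkt, hks]
          _ = s * (s * t) := by rw [hst.eq]
          _ = t := by rw [← mul_assoc, hss, one_mul]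
      calc k ^ 3 * s * (k ^ 3)⁻¹ = k * (k * (k * s * k⁻¹) * k⁻¹) * k⁻¹ := by
            rw [pow_succ, pow_two]; group
        _ = s := by rw [hks, h2, hkt]
    obtain ⟨e, he⟩ : ∃ e, e = (orderOf k).factorization 2 := ⟨_, rfl⟩
    have hxA : k ^ 2 ^ e ∈ oddPart h hw₀o := by
      refine ⟨(hk ▸ hpw.mul_left hp'w : Commute k w₀).pow_left _, ?_⟩
      rw [he, orderOf_pow_of_dvd (by positivity) (Nat.ordProj_dvd _ _), ← Nat.not_even_iff_odd,
        even_iff_two_dvd]
      exact Nat.not_dvd_ordCompl Nat.prime_two (orderOf_pos _).ne'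
    have hxs : Commute (k ^ 2 ^ e) s := h.commute_of_two hw₀o hxA hsw₀
      (two_of_mem S.2 (mul_mem (hPS (hPn _ s hsP)) (inv_mem hcS)))
    have hks' : Commute k s := by
      have h1 : k ^ Nat.gcd (2 ^ e) 3 ∈ Subgroup.centralizer ({s} : Set G) := by
        rw [← zpow_natCast, Nat.gcd_eq_gcd_ab, zpow_add, zpow_mul, zpow_mul, zpow_natCast,
          zpow_natCast]
        exact mul_mem (zpow_mem (mem_centralizer_singleton_iff'.mpr hxs) _)
          (zpow_mem (mem_centralizer_singleton_iff'.mpr hk3) _)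
      have h2 : Nat.gcd (2 ^ e) 3 = 1 := Nat.Coprime.pow_left e (by norm_num)
      rw [h2, pow_one] at h1
      exact mem_centralizer_singleton_iff'.mp h1
    rw [hks'.eq, mul_inv_cancel_right] at hks
    exact ht1 (mul_eq_right.mp hks.symm)
  -- `U` is cyclic
  have hUS : U ≤ S := fun g hg => ((hmU g).mp hg).1
  have hcyc : IsCyclic ↥U := by
    haveI := Fact.mk Nat.prime_two
    have h1 : IsCyclic ↥(U.subgroupOf (S : Subgroup G)) := by
      refine SymplecticType.isCyclic_of_comm_unique (p := 2) (z := (⟨t, htS⟩ : (S : Subgroup G)))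
        S.2 ?_ ?_ ?_
      · intro a ha b hb
        exact Subtype.ext (hcomm a ha b hb).eq
      · intro x hx hx2
        rw [pow_two] at hx2
        rcases honly x hx (congrArg Subtype.val hx2) with e | e
        · rw [show x = 1 from Subtype.ext e]
          exact one_mem _
        · rw [show x = ⟨t, htS⟩ from Subtype.ext e]
          exact Subgroup.mem_zpowers _
      · exact Subtype.ext (by rw [Subgroup.coe_pow, pow_two]; exact htt)
    exact (Subgroup.subgroupOfEquivOfLe hUS).isCyclic.mp h1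
  refine h.dihedral_final hna S ht htS htZ U hUS hcyc htU (relIndex_eq_two_of hcS hsU hdec) hout ?_
  intro hne g hg
  constructor
  · intro hgU
    obtain ⟨⟨u, huU⟩, hu⟩ := hcyc.exists_generator
    have hz : ∀ x ∈ U, x ∈ Subgroup.zpowers u := fun x hx => by
      obtain ⟨i, hi⟩ := hu ⟨x, hx⟩
      exact ⟨i, congrArg Subtype.val hi⟩
    intro a ha
    obtain ⟨i, rfl⟩ := hz g hgU
    exact ((h.commute_oddPart ht (two_of_mem S.2 (hUS huU)) (hz t htU) ha).symm).zpow_left i
  · intro hgA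
    by_contra hgU
    obtain ⟨a, ha, ha1⟩ := (oddPart h ht).bot_or_exists_ne_one.resolve_left hne
    have hg2 : orderOf g = 2 :=
      orderOf_eq_two_iff'.mpr ⟨hout g hg hgU, fun h0 => hgU (h0 ▸ one_mem U)⟩
    have := (h.commute_iff_of_common ht ha ha1 hg2 (hgA a ha) p).mpr htpc.symm
    exact hgU ((hmU g).mpr ⟨hg, this.symm⟩)

end CfsgLib.NormCyclicEven16
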