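import Cfsg.Agent.NormCyclicEven16.SimpleTools
import Cfsg.Agent.NormCyclicEven16.TwoGroup
import Cfsg.Agent.NormCyclicEven16.Single
import Cfsg.Agent.S0111

/-!
A Sylow `2`-subgroup with two square involutions is abelian, by transfer.
-/

set_option autoImplicit false

namespace CfsgLib.NormCyclicEven16

variable {G : Type*} [Group G] [Finite G]

theorem rootCentralizer_conj_mem {S : Subgroup G} {f : G} (hf : ∀ s ∈ S, f * s * f⁻¹ ∈ S) {v : G}
    (hv : v ∈ rootCentralizer S) : f * v * f⁻¹ ∈ rootCentralizer S := by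
  obtain ⟨hvS, hvc⟩ := mem_rootCentralizer.mp hv
  have heq : S.map (MulAut.conj f).toMonoidHom = S :=
    Subgroup.eq_of_le_of_card_ge (by rintro _ ⟨s, hs, rfl⟩; exact hf s hs)
      (Subgroup.card_map_of_injective (MulAut.conj f).injective).ge
  refine mem_rootCentralizer.mpr ⟨hf v hvS, fun y hy => ?_⟩
  obtain ⟨y', hy', hyy⟩ : y ∈ S.map (MulAut.conj f).toMonoidHom := heq.symm ▸ hy.1
  have hyy : f * y' * f⁻¹ = y := hyy
  have h4 : f * y' ^ 4 * f⁻¹ = 1 := by rw [← conj_pow, hyy]; exact hy.2.1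
  rw [← hyy, commute_conj_iff]
  refine hvc y' ⟨hy', by simpa using h4, fun h2 => hy.2.2 ?_⟩
  rw [← hyy, show f * y' * f⁻¹ * (f * y' * f⁻¹) = f * (y' * y') * f⁻¹ by group, h2]
  group

theorem Hyp.many_case [IsSimpleGroup G] (hna : ¬ IsMulCommutative G) (h : Hyp G) (S : Sylow 2 G)
    {p q : G} (hp : Root (S : Subgroup G) p) (hq : Root (S : Subgroup G) q)
    (hpq : p * p ≠ q * q) : ∀ u ∈ S, ∀ v ∈ S, Commute u v := by
  obtain ⟨hpV, hqV, hsq, hmulV, hVc⟩ := h.many_squares S.2 hp hq hpq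
  by_cases hall : ∀ g ∈ S, g ∈ rootCentralizer (S : Subgroup G)
  · exact fun u hu v hv => hVc u (hall u hu) v (hall v hv)
  exfalso
  push Not at hall
  obtain ⟨g, hgS, hgV⟩ := hall
  obtain ⟨V, hV⟩ : ∃ V, V = rootCentralizer (S : Subgroup G) := ⟨_, rfl⟩
  rw [← hV] at hgV hpV hqV hsq hmulV hVc
  have hVS : ∀ v ∈ V, v ∈ S := fun v hv => (mem_rootCentralizer.mp (hV ▸ hv)).1
  have hidx : V.relIndex (S : Subgroup G) = 2 := relIndex_eq_two_of hgS hgV fun k hk => by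
    by_cases hkV : k ∈ V
    · exact Or.inl hkV
    · exact Or.inr (hmulV g hgS hgV k hk hkV)
  have hcen : ∀ u ∈ V, u * u = 1 → ∀ k ∈ S, Commute k u := by
    intro u hu huu k hk
    by_cases hkV : k ∈ V
    · exact hVc k hkV u hu
    · have hku : k * u ∉ V := fun h0 => hkV (by simpa using mul_mem h0 (inv_mem hu))
      have h1 := hsq _ ((S : Subgroup G).mul_mem hk (hVS u hu)) hku
      have h2 := hsq k hk hkV
      show k * u = u * k
      rw [← inv_eq_of_mul_eq_one_right h1, mul_inv_rev, inv_eq_of_mul_eq_one_right h2,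
        inv_eq_of_mul_eq_one_right huu]
  have hg : orderOf g = 2 :=
    orderOf_eq_two_iff'.mpr ⟨hsq g hgS hgV, fun h0 => hgV (h0 ▸ one_mem V)⟩
  rcases Cfsg.Agent.S0111.result S V (fun v hv => hVS v hv) hidx g hg hgS hgV with
    ⟨M, hM, hM2, -⟩ | ⟨c, hc⟩
  · exact not_index_two hna hM hM2
  obtain ⟨u, hudef⟩ : ∃ u, u = c * g * c⁻¹ := ⟨_, rfl⟩
  have hu : orderOf u = 2 := hudef ▸ (orderOf_conj' c g).trans hg
  rw [← hudef] at hc
  have huS : ∀ k ∈ S, Commute k u := hcen u hc (orderOf_eq_two_iff'.mp hu).1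
  have hP2 : IsPGroup 2 ↥(((S : Subgroup G) ⊓ Subgroup.centralizer ({g} : Set G)).map
      (MulAut.conj c).toMonoidHom) := (S.2.to_le inf_le_left).map _
  obtain ⟨a, ha, hP⟩ := h.exists_conj_le hu S huS hP2 (by
    rintro _ ⟨x, ⟨-, hx⟩, rfl⟩
    rw [MulEquiv.coe_toMonoidHom, MulAut.conj_apply, hudef]
    exact (commute_conj_iff c x g).mpr (mem_centralizer_singleton_iff'.mp hx))
  obtain ⟨d, hd⟩ : ∃ d, d = a⁻¹ * c := ⟨_, rfl⟩
  have hdS : ∀ x ∈ S, Commute x g → d * x * d⁻¹ ∈ S := by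
    intro x hx hxg
    have := hP _ ⟨x, ⟨hx, mem_centralizer_singleton_iff'.mpr hxg⟩, rfl⟩
    simpa [hd, MulAut.conj_apply, mul_assoc] using this
  have hdg : d * g * d⁻¹ = u := by
    calc d * g * d⁻¹ = a⁻¹ * u * a := by rw [hd, hudef]; group
      _ = u := by rw [mul_assoc, ← ha.1.eq, inv_mul_cancel_left]
  obtain ⟨z₀, hz₀V, hz₀, hz₀'⟩ : ∃ z₀ ∈ V, orderOf z₀ = 2 ∧ d * z₀ * d⁻¹ ∈ V := by
    have h1 := mul_mem hpV hpV
    have h2 := mul_mem hqV hqV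
    obtain ⟨a1, -⟩ := orderOf_eq_two_iff'.mp hp.orderOf_sq
    obtain ⟨b1, -⟩ := orderOf_eq_two_iff'.mp hq.orderOf_sq
    have hS1 := hdS _ (hVS _ h1) (hcen _ h1 a1 g hgS).symm
    have hS2 := hdS _ (hVS _ h2) (hcen _ h2 b1 g hgS).symm
    by_cases e1 : d * (p * p) * d⁻¹ ∈ V
    · exact ⟨_, h1, hp.orderOf_sq, e1⟩
    by_cases e2 : d * (q * q) * d⁻¹ ∈ V
    · exact ⟨_, h2, hq.orderOf_sq, e2⟩
    refine ⟨(p * p) * (q * q), mul_mem h1 h2, orderOf_eq_two_iff'.mpr ⟨?_, fun h0 => hpq ?_⟩, ?_⟩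
    · calc p * p * (q * q) * (p * p * (q * q)) = (p * p) * ((q * q) * (p * p)) * (q * q) := by group
        _ = (p * p) * ((p * p) * (q * q)) * (q * q) := by rw [(hVc _ h2 _ h1).eq]
        _ = ((p * p) * (p * p)) * ((q * q) * (q * q)) := by group
        _ = 1 := by rw [a1, b1, one_mul]
    · rw [mul_eq_one_iff_eq_inv] at h0
      rw [h0, inv_eq_of_mul_eq_one_right b1]
    · rw [show d * (p * p * (q * q)) * d⁻¹ = (d * (p * p) * d⁻¹) * (d * (q * q) * d⁻¹) by group]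
      exact hmulV _ hS1 e1 _ hS2 e2
  have hz₀z₀ := (orderOf_eq_two_iff'.mp hz₀).1
  have hw₀ : ∀ k ∈ S, Commute k (d * z₀ * d⁻¹) := hcen _ hz₀' (by
    calc d * z₀ * d⁻¹ * (d * z₀ * d⁻¹) = d * (z₀ * z₀) * d⁻¹ := by group
      _ = 1 := by rw [hz₀z₀]; group)
  have hz₀S := hcen z₀ hz₀V hz₀z₀
  obtain ⟨b, hb, hbS⟩ := h.exists_conj_le hz₀ S hz₀S
    (P := (S : Subgroup G).map (MulAut.conj d⁻¹).toMonoidHom) (S.2.map _) (by
      rintro _ ⟨x, hx, rfl⟩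
      have := (commute_conj_iff d⁻¹ x (d * z₀ * d⁻¹)).mpr (hw₀ x hx)
      rw [inv_inv] at this
      rw [MulEquiv.coe_toMonoidHom, MulAut.conj_apply, inv_inv]
      rwa [show d⁻¹ * (d * z₀ * d⁻¹) * d = z₀ by group] at this)
  obtain ⟨f, hf⟩ : ∃ f, f = b⁻¹ * d⁻¹ := ⟨_, rfl⟩
  have hfS : ∀ s ∈ (S : Subgroup G), f * s * f⁻¹ ∈ (S : Subgroup G) := fun s hs => by
    have hmem := hbS _ ⟨s, hs, rfl⟩
    show f * s * f⁻¹ ∈ S
    simpa [hf, MulAut.conj_apply, mul_assoc] using hmem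
  have hfu : f * u * f⁻¹ ∈ V := hV ▸ rootCentralizer_conj_mem hfS (hV ▸ hc)
  have hfu' : f * u * f⁻¹ = b⁻¹ * g * b := by rw [hf, ← hdg]; group
  rw [hfu'] at hfu
  have hcom : Commute b⁻¹ g := h.commute_of_two hz₀ (inv_mem hb) (hz₀S g hgS)
    (two_of_mem S.2 (by
      rw [inv_inv]
      exact (S : Subgroup G).mul_mem (hVS _ hfu) ((S : Subgroup G).inv_mem hgS)))
  rw [hcom.eq, inv_mul_cancel_right] at hfu
  exact hgV hfu

end CfsgLib.NormCyclicEven16
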