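import Cfsg.Agent.NormCyclicEven16.Many
import Cfsg.Agent.NormCyclicEven16.Abelian
import Cfsg.Agent.S2202
import Cfsg.Agent.PrimeGraphPSLTwo.Model

/-!
The simple groups in which the subgroups of even cyclic subgroups share their normalisers.
-/

set_option autoImplicit false

namespace CfsgLib.NormCyclicEven16

variable {G : Type*} [Group G] [Finite G]

theorem isPSLTwo_of_centralizers_abelian [IsSimpleGroup G] (hna : ¬ IsMulCommutative G)
    (hev : Even (Nat.card G))
    (hC : ∀ t : G, orderOf t = 2 → IsMulCommutative ↥(Subgroup.centralizer ({t} : Set G))) :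
    IsPSLTwo G := by
  obtain ⟨S⟩ : Nonempty (Sylow 2 G) := inferInstance
  rcases Cfsg.Agent.S2202.result hev hC with hcyc | hnor | ⟨F, iF, iFF, A, iA, iAf, hchar, -, ⟨e⟩⟩
  · exfalso
    haveI := Fact.mk Nat.prime_two
    have hmin : (Nat.card G).minFac = 2 := (Nat.minFac_eq_two_iff _).mpr (even_iff_two_dvd.mp hev)
    haveI := hcyc S
    exact no_burnside hna hev S ((hcyc S).normalizer_le_centralizer hmin)
  · exact absurd (hnor S) (not_normal_sylow hna hev S)
  haveI := hchar
  let π : G →* Matrix.SpecialLinearGroup (Fin 2) F := (MonoidHom.fst _ _).comp e.toMonoidHom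
  have hsurj : Function.Surjective π := fun s => ⟨e.symm (s, 1), by simp [π]⟩
  have hker : π.ker = ⊥ := (MonoidHom.normal_ker π).eq_bot_or_eq_top.resolve_right fun h0 => by
    obtain ⟨w, hw⟩ := hsurj (Matrix.SpecialLinearGroup.transvection (show (0 : Fin 2) ≠ 1 by decide) 1)
    have h1 : π w = 1 := MonoidHom.mem_ker.mp (h0 ▸ Subgroup.mem_top w)
    rw [h1] at hw
    have := congrArg (fun s : Matrix.SpecialLinearGroup (Fin 2) F => s.1 0 1) hw
    simp [Matrix.SpecialLinearGroup.transvection, Matrix.transvection, Matrix.single] at this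
  obtain ⟨e'⟩ := PrimeGraphPSLTwo.nonempty_sl_equiv_psl (F := F)
  let E := (MulEquiv.ofBijective π ⟨(MonoidHom.ker_eq_bot_iff π).mp hker, hsurj⟩).trans e'
  refine ⟨F, iF, iFF, ?_, ⟨E⟩⟩
  by_contra hle
  have h2 : Fintype.card F = 2 := by
    obtain ⟨n, -, hn⟩ := FiniteField.card F 2
    have hn1 : (n : ℕ) = 1 := by
      have hpos : 0 < (n : ℕ) := n.pos
      by_contra hne
      have : 2 ^ 2 ≤ 2 ^ (n : ℕ) := Nat.pow_le_pow_right (by norm_num) (by omega)
      omega
    rw [hn, hn1, pow_one]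
  have hc : Nat.card G = 2 ^ 1 * 3 ^ 1 := by
    rw [Nat.card_congr E.toEquiv, SL2.card_PSL_two, h2]
    norm_num
  have hs := Chars.Apps.isSolvable_of_card_eq_pow_mul_pow G Nat.prime_two Nat.prime_three hc
  exact hna (IsSimpleGroup.comm_iff_isSolvable.mpr hs |> fun hcomm => ⟨⟨hcomm⟩⟩)

/-- The simple case. -/
theorem Hyp.simple_case [IsSimpleGroup G] (hna : ¬ IsMulCommutative G) (h : Hyp G)
    (hev : Even (Nat.card G)) : IsPSLTwo G := by
  by_cases hC : ∀ t : G, orderOf t = 2 → IsMulCommutative ↥(Subgroup.centralizer ({t} : Set G))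
  · exact isPSLTwo_of_centralizers_abelian hna hev hC
  push Not at hC
  obtain ⟨e, he, hbad⟩ := hC
  obtain ⟨S⟩ : Nonempty (Sylow 2 G) := inferInstance
  refine (em (∀ x ∈ S, ∀ y ∈ S, Commute x y)).elim
    (fun hab => h.abelian_case hna hev S hab he hbad) fun hnab => ?_
  by_cases hroot : ∃ p, Root (S : Subgroup G) p
  · obtain ⟨p, hp⟩ := hroot
    by_cases huniq : ∀ y, Root (S : Subgroup G) y → y * y = p * p
    · exact h.single_case hna S hp huniq
    · push Not at huniq
      obtain ⟨q, hq, hqp⟩ := huniq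
      exact absurd (h.many_case hna S hp hq (Ne.symm hqp)) hnab
  · refine absurd (fun x hx y hy => ?_) hnab
    have hsq : ∀ g ∈ S, g * g = 1 := fun g hg => by_contra fun hgg => by
      obtain ⟨j, hr⟩ := exists_root S.2 hg hgg
      exact hroot ⟨_, hr⟩
    show x * y = y * x
    rw [← inv_eq_of_mul_eq_one_right (hsq _ ((S : Subgroup G).mul_mem hx hy)), mul_inv_rev,
      inv_eq_of_mul_eq_one_right (hsq x hx), inv_eq_of_mul_eq_one_right (hsq y hy)]

end CfsgLib.NormCyclicEven16
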